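import Groth.Agent.Sga84.TorsorExact

/-! The universal property of the extension of the structure group of a torsor. -/

set_option autoImplicit false
universe u

open CategoryTheory MonoidalCategory CartesianMonoidalCategory MonObj GrpObj AlgebraicGeometry

namespace Groth.Agent.Push96

open Groth.Agent.Sga84

variable {X : Scheme.{u}} {J J' J'' : Over X} [GrpObj J] [GrpObj J'] [GrpObj J'']
  {P P' P'' : Over X} {a : AlgGrp.Action J P} {a' : AlgGrp.Action J' P'} {a'' : AlgGrp.Action J'' P''}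

theorem equivariant_pt {u : J ⟶ J'} {q : P ⟶ P'}
    (hq : a.act ≫ q = lift (fst J P ≫ u) (snd J P ≫ q) ≫ a'.act) {Z : Over X} (g : Z ⟶ J) (p : Z ⟶ P) :
    actPt a g p ≫ q = actPt a' (g ≫ u) (p ≫ q) := by
  rw [actPt, Category.assoc, hq, comp_lift_assoc, lift_fst_assoc, lift_snd_assoc]
  rfl

theorem existsUnique_map (u : J ⟶ J') [IsMonHom u] (v : J' ⟶ J'') [IsMonHom v]
    (hP : NonAbH1.IsTorsorFor Scheme.fpqcPrecoverage a) (hP' : NonAbH1.IsTorsorFor Scheme.fpqcPrecoverage a')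
    (q' : P ⟶ P') (hq' : a.act ≫ q' = lift (fst J P ≫ u) (snd J P ≫ q') ≫ a'.act)
    (q'' : P ⟶ P'') (hq'' : a.act ≫ q'' = lift (fst J P ≫ u ≫ v) (snd J P ≫ q'') ≫ a''.act) :
    ∃! r : P' ⟶ P'', a'.act ≫ r = lift (fst J' P' ≫ v) (snd J' P' ≫ r) ≫ a''.act ∧ q' ≫ r = q'' := by
  obtain ⟨hps, hloc⟩ := hP
  -- the value on a point
  have hindep : ∀ {Z : Over X} (p p₁ : Z ⟶ P) (h h₁ : Z ⟶ J'),
      actPt a' h (p ≫ q') = actPt a' h₁ (p₁ ≫ q') →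
      actPt a'' (h ≫ v) (p ≫ q'') = actPt a'' (h₁ ≫ v) (p₁ ≫ q'') := by
    intro Z p p₁ h h₁ e
    obtain ⟨j, hj, -⟩ := existsUnique_actPt a hps p p₁
    have e' : p₁ ≫ q' = actPt a' (j ≫ u) (p ≫ q') := by rw [← hj, equivariant_pt hq']
    have e'' : p₁ ≫ q'' = actPt a'' (j ≫ u ≫ v) (p ≫ q'') := by rw [← hj, equivariant_pt hq'']
    rw [e', ← actPt_mul] at e
    obtain ⟨x, -, hx⟩ := existsUnique_actPt a' hP'.1 (p ≫ q') (actPt a' h (p ≫ q'))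
    have hh : h = h₁ * (j ≫ u) := (hx h rfl).trans (hx _ e.symm).symm
    rw [e'', ← actPt_mul, hh, MonObj.mul_comp, Category.assoc]
  let rel : ∀ Z : Over X, (Z ⟶ P') → (Z ⟶ P'') → Prop := fun Z g y =>
    ∃ (p : Z ⟶ P) (h : Z ⟶ J'), actPt a' h (p ≫ q') = g ∧ y = actPt a'' (h ≫ v) (p ≫ q'')
  have hnat : ∀ (Z Z' : Over X) (k : Z' ⟶ Z) (g : Z ⟶ P') (y : Z ⟶ P''),
      rel Z g y → rel Z' (k ≫ g) (k ≫ y) := by
    rintro Z Z' k g y ⟨p, h, e, rfl⟩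
    exact ⟨k ≫ p, k ≫ h, by rw [← e, comp_actPt]; simp, by rw [comp_actPt]; simp⟩
  have huniq : ∀ (Z : Over X) (g : Z ⟶ P'), (Z ⟶ P) → ∃! y, rel Z g y := by
    intro Z g p
    obtain ⟨h, hh, -⟩ := existsUnique_actPt a' hP'.1 (p ≫ q') g
    exact ⟨_, ⟨p, h, hh, rfl⟩, fun y ⟨p₁, h₁, e₁, hy⟩ => hy ▸ hindep p₁ p h₁ h (e₁.trans hh.symm)⟩
  obtain ⟨r, hr⟩ := exists_glue hloc rel hnat huniq
  -- evaluation
  have hval : ∀ {Z : Over X} (p : Z ⟶ P) (h : Z ⟶ J'),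
      actPt a' h (p ≫ q') ≫ r = actPt a'' (h ≫ v) (p ≫ q'') := by
    intro Z p h
    obtain ⟨p₁, h₁, e₁, hy⟩ := hr Z _ p
    rw [hy]
    exact hindep p₁ p h₁ h e₁
  refine ⟨r, ⟨hom_ext_of_point hloc fun Z g p => ?_, ?_⟩, fun r₁ ⟨h1, h2⟩ =>
    hom_ext_of_point hloc fun Z g p => ?_⟩
  · obtain ⟨h, hh, -⟩ := existsUnique_actPt a' hP'.1 (p ≫ q') (g ≫ snd J' P')
    have e1 : g ≫ a'.act = actPt a' ((g ≫ fst J' P') * h) (p ≫ q') := by
      rw [actPt_mul, hh, actPt, ← comp_lift, lift_fst_snd, Category.comp_id]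
    rw [reassoc_of% e1, hval, MonObj.mul_comp, actPt_mul, ← hval, hh, comp_lift_assoc]
    simp [actPt]
  · have hw := hval (𝟙 P) (1 : P ⟶ J')
    have h1 : ∀ {G Y : Over X} [GrpObj G] (b : AlgGrp.Action G Y) {Z : Over X} (y : Z ⟶ Y),
        actPt b (1 : Z ⟶ G) y = y := by
      intro G Y _ b Z y
      have := congrArg (lift (toUnit Z) y ≫ ·) b.one_act
      simpa [actPt, Hom.one_def] using this
    rwa [Category.id_comp, Category.id_comp, MonObj.one_comp, h1, h1] at hw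
  · obtain ⟨h, hh, -⟩ := existsUnique_actPt a' hP'.1 (p ≫ q') g
    rw [← hh, hval, equivariant_pt h1, Category.assoc, h2]

end Groth.Agent.Push96
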