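import Groth.Agent.Sga84.TorsorExact

/-! Gluing morphisms defined on the objects over the members of an fpqc covering. -/

set_option autoImplicit false
universe u

open CategoryTheory MonoidalCategory CartesianMonoidalCategory MonObj GrpObj AlgebraicGeometry

namespace Groth.Agent.Push96

variable {S : Scheme.{u}}

section Descend

variable {I : Type*} {X' : I → Scheme.{u}} {c : ∀ i, X' i ⟶ S}
  (hQ : Presieve.ofArrows X' c ∈ Scheme.fpqcPrecoverage S) {T Y : Over S}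

/-- `Z` maps to a member of the family. -/
def Pt (c : ∀ i, X' i ⟶ S) (Z : Over S) : Prop := ∃ i, Nonempty (Z ⟶ Over.mk (c i))

theorem Pt.of_hom {Z Z' : Over S} (k : Z' ⟶ Z) : Pt c Z → Pt c Z' :=
  fun ⟨i, ⟨q⟩⟩ => ⟨i, ⟨k ≫ q⟩⟩

include hQ

/-- The morphisms to `T` whose source has a point in `Q` cover `T`. -/
theorem exists_sieve (T : Over S) : ∃ U : Sieve T.left, U ∈ Scheme.fpqcTopology T.left ∧
    ∀ ⦃W : Scheme.{u}⦄ (k : W ⟶ T.left), U k → Pt c (Over.mk (k ≫ T.hom)) := by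
  have hR := hQ
  refine ⟨(Sieve.generate (Presieve.ofArrows X' c)).pullback T.hom,
    Scheme.fpqcTopology.pullback_stable _ (Precoverage.generate_mem_toGrothendieck hR), ?_⟩
  intro W k hk
  obtain ⟨W', a, b, hb, hab⟩ := hk
  obtain ⟨i⟩ := hb
  exact ⟨i, ⟨Over.homMk a hab⟩⟩

theorem hom_ext_of_point {a b : T ⟶ Y}
    (h : ∀ (Z : Over S) (g : Z ⟶ T), Pt c Z → g ≫ a = g ≫ b) : a = b := by
  obtain ⟨U, hU, hpt⟩ := exists_sieve hQ T
  have hsh : Presieve.IsSheafFor (yoneda.obj Y.left) (U : Presieve T.left) :=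
    GrothendieckTopology.Subcanonical.isSheaf_of_isRepresentable (J := Scheme.fpqcTopology) _ _ hU
  refine Over.OverMorphism.ext (hsh.isSeparatedFor.ext fun W k hk => ?_)
  have q := hpt k hk
  exact congrArg CommaMorphism.left (h (Over.mk (k ≫ T.hom)) (Over.homMk k rfl) q)

theorem exists_glue (rel : ∀ Z : Over S, (Z ⟶ T) → (Z ⟶ Y) → Prop)
    (hnat : ∀ (Z Z' : Over S) (k : Z' ⟶ Z) (g : Z ⟶ T) (y : Z ⟶ Y), rel Z g y → rel Z' (k ≫ g) (k ≫ y))
    (huniq : ∀ (Z : Over S) (g : Z ⟶ T), Pt c Z → ∃! y, rel Z g y) :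
    ∃ y : T ⟶ Y, ∀ (Z : Over S) (g : Z ⟶ T), Pt c Z → rel Z g (g ≫ y) := by
  obtain ⟨U, hU, hpt⟩ := exists_sieve hQ T
  choose f hf hfu using huniq
  have hindep : ∀ (Z : Over S) (g : Z ⟶ T) (q q' : Pt c Z), f Z g q = f Z g q' :=
    fun Z g q q' => hfu Z g q' _ (hf Z g q)
  let x : Presieve.FamilyOfElements (yoneda.obj Y.left) (U : Presieve T.left) := fun W k hk =>
    (f (Over.mk (k ≫ T.hom)) (Over.homMk k rfl) (hpt k hk)).left
  have hx : x.Compatible := by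
    intro W₁ W₂ Z a₁ a₂ k₁ k₂ h₁ h₂ e
    show a₁ ≫ x k₁ h₁ = a₂ ≫ x k₂ h₂
    let Z' : Over S := Over.mk (a₁ ≫ k₁ ≫ T.hom)
    let l₁ : Z' ⟶ Over.mk (k₁ ≫ T.hom) := Over.homMk a₁ rfl
    let l₂ : Z' ⟶ Over.mk (k₂ ≫ T.hom) := Over.homMk a₂ (by
      show a₂ ≫ k₂ ≫ T.hom = a₁ ≫ k₁ ≫ T.hom
      simp only [← Category.assoc, e])
    have e1 := hnat _ _ l₁ _ _ (hf (Over.mk (k₁ ≫ T.hom)) (Over.homMk k₁ rfl) (hpt k₁ h₁))
    have e2 := hnat _ _ l₂ _ _ (hf (Over.mk (k₂ ≫ T.hom)) (Over.homMk k₂ rfl) (hpt k₂ h₂))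
    have eg : l₂ ≫ (Over.homMk k₂ rfl : Over.mk (k₂ ≫ T.hom) ⟶ T) = l₁ ≫ Over.homMk k₁ rfl :=
      Over.OverMorphism.ext e.symm
    rw [eg] at e2
    have q := (hpt k₁ h₁).of_hom l₁
    exact congrArg CommaMorphism.left ((hfu Z' _ q _ e1).trans (hfu Z' _ q _ e2).symm)
  have hsh : Presieve.IsSheafFor (yoneda.obj Y.left) (U : Presieve T.left) :=
    GrothendieckTopology.Subcanonical.isSheaf_of_isRepresentable (J := Scheme.fpqcTopology) _ _ hU
  have hshS : Presieve.IsSheafFor (yoneda.obj S) (U : Presieve T.left) :=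
    GrothendieckTopology.Subcanonical.isSheaf_of_isRepresentable (J := Scheme.fpqcTopology) _ _ hU
  obtain ⟨y₀, hy₀, -⟩ := hsh x hx
  let y : T ⟶ Y := Over.homMk y₀ (hshS.isSeparatedFor.ext fun W k hk => by
    show k ≫ y₀ ≫ Y.hom = k ≫ T.hom
    rw [← Category.assoc, show k ≫ y₀ = x k hk from hy₀ k hk]
    exact Over.w (f (Over.mk (k ≫ T.hom)) (Over.homMk k rfl) (hpt k hk)))
  have hy : ∀ ⦃W : Scheme.{u}⦄ (k : W ⟶ T.left) (hk : U k),
      (Over.homMk k rfl : Over.mk (k ≫ T.hom) ⟶ T) ≫ y =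
        f (Over.mk (k ≫ T.hom)) (Over.homMk k rfl) (hpt k hk) :=
    fun W k hk => Over.OverMorphism.ext (hy₀ k hk)
  refine ⟨y, fun Z g q => ?_⟩
  suffices g ≫ y = f Z g q by rw [this]; exact hf Z g q
  obtain ⟨U', hU', hsub⟩ : ∃ U' : Sieve Z.left, U' ∈ Scheme.fpqcTopology Z.left ∧
      ∀ ⦃W : Scheme.{u}⦄ (k : W ⟶ Z.left), U' k → U (k ≫ g.left) :=
    ⟨U.pullback g.left, Scheme.fpqcTopology.pullback_stable _ hU, fun W k hk => hk⟩
  have hshZ : Presieve.IsSheafFor (yoneda.obj Y.left) (U' : Presieve Z.left) :=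
    GrothendieckTopology.Subcanonical.isSheaf_of_isRepresentable (J := Scheme.fpqcTopology) _ _ hU'
  refine Over.OverMorphism.ext (hshZ.isSeparatedFor.ext fun W k hk => ?_)
  show k ≫ (g.left ≫ y₀) = k ≫ (f Z g q).left
  let l : Over.mk ((k ≫ g.left) ≫ T.hom) ⟶ Z := Over.homMk k (by
    show k ≫ Z.hom = (k ≫ g.left) ≫ T.hom
    rw [Category.assoc, Over.w g])
  have e1 := hnat _ _ l g _ (hf Z g q)
  have el : l ≫ g = Over.homMk (k ≫ g.left) rfl := Over.OverMorphism.ext rfl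
  rw [el] at e1
  rw [← Category.assoc]
  exact (hy₀ _ (hsub k hk)).trans
    (congrArg CommaMorphism.left (hfu _ _ (hpt _ (hsub k hk)) _ e1)).symm

end Descend

open Groth.Agent.Sga84 in
/-- An action is a torsor iff it is trivialised by the members of a covering family. -/
theorem isTorsorFor_iff_trivialised {G X : Over S} [GrpObj G] (a : AlgGrp.Action G X) :
    NonAbH1.IsTorsorFor Scheme.fpqcPrecoverage a ↔
      ∃ R ∈ Scheme.fpqcPrecoverage S, ∀ ⦃S' : Scheme.{u}⦄ (f : S' ⟶ S), R f →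
        ∃ s : Over.mk f ⟶ X, IsIso (lift ((G ◁ s) ≫ a.act) (snd G (Over.mk f))) := by
  constructor
  · rintro ⟨hps, R, hR, hsec⟩
    refine ⟨R, hR, fun S' f hf => ?_⟩
    obtain ⟨t, ht⟩ := hsec f hf
    let Z := Over.mk f
    let s : Z ⟶ X := Over.homMk t ht
    obtain ⟨g, hg, -⟩ := existsUnique_actPt a hps (snd X Z ≫ s) (fst X Z)
    refine ⟨s, ⟨⟨lift g (snd X Z), ?_, ?_⟩⟩⟩
    · obtain ⟨g₀, -, hu⟩ := existsUnique_actPt a hps (snd G Z ≫ s) ((G ◁ s) ≫ a.act)
      have e1 : actPt a (fst G Z) (snd G Z ≫ s) = (G ◁ s) ≫ a.act := by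
        rw [actPt]; congr 1
      have e2 : actPt a (lift ((G ◁ s) ≫ a.act) (snd G Z) ≫ g) (snd G Z ≫ s) = (G ◁ s) ≫ a.act := by
        have := congrArg (lift ((G ◁ s) ≫ a.act) (snd G Z) ≫ ·) hg
        simpa [comp_actPt] using this
      rw [comp_lift, lift_snd, (hu _ e2).trans (hu _ e1).symm, lift_fst_snd]
    · rw [comp_lift, lift_snd, ← Category.assoc, lift_whiskerLeft]
      show lift (actPt a g (snd X Z ≫ s)) (snd X Z) = _
      rw [hg, lift_fst_snd]
  · rintro ⟨R, hR, hsec⟩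
    obtain ⟨I, X', c, rfl⟩ := R.exists_eq_ofArrows
    choose s hs using fun i => hsec (c i) ⟨i⟩
    refine ⟨?_, Presieve.ofArrows X' c, hR, ?_⟩
    swap
    · rintro _ _ ⟨i⟩
      exact ⟨(s i).left, Over.w (s i)⟩
    -- transitivity over the members
    have htr : ∀ {i : I} {Z : Over S} (q : Z ⟶ Over.mk (c i)) (x : Z ⟶ X),
        ∃! g : Z ⟶ G, actPt a g (q ≫ s i) = x := by
      intro i Z q x
      have := hs i
      let φ := lift ((G ◁ s i) ≫ a.act) (snd G (Over.mk (c i)))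
      let w := lift x q ≫ inv φ
      have hw : w ≫ φ = lift x q := by
        show (lift x q ≫ inv φ) ≫ φ = _
        rw [Category.assoc, IsIso.inv_hom_id, Category.comp_id]
      have h1 : w ≫ (G ◁ s i) ≫ a.act = x := by simpa [φ] using congrArg (· ≫ fst _ _) hw
      have h2 : w ≫ snd G (Over.mk (c i)) = q := by simpa [φ] using congrArg (· ≫ snd _ _) hw
      refine ⟨w ≫ fst _ _, ?_, fun g hg => ?_⟩
      · show actPt a _ _ = _
        rw [actPt, ← h2, ← h1, ← Category.assoc w (G ◁ s i)]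
        congr 1
        apply CartesianMonoidalCategory.hom_ext <;> simp
      · have : lift g q = w := by
          rw [← cancel_mono φ, hw]
          apply CartesianMonoidalCategory.hom_ext
          · simpa [φ, lift_whiskerLeft_assoc, actPt] using hg
          · simp [φ]
        simp [← this]
    have htr' : ∀ {Z : Over S}, Pt c Z → ∀ x y : Z ⟶ X, ∃! g : Z ⟶ G, actPt a g x = y := by
      rintro Z ⟨i, ⟨q⟩⟩ x y
      obtain ⟨gx, hgx, hux⟩ := htr q x
      obtain ⟨gy, hgy, huy⟩ := htr q y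
      refine ⟨gy * gx⁻¹, ?_, fun g hg => ?_⟩
      · show actPt a _ _ = _
        rw [← hgx, ← actPt_mul, inv_mul_cancel_right, hgy]
      · rw [eq_mul_inv_iff_mul_eq]
        refine huy _ ?_
        show actPt a _ _ = _
        rw [actPt_mul, hgx, hg]
    refine isPseudoTorsorSch_of_existsUnique a fun T x y => ?_
    obtain ⟨g, hg⟩ := exists_glue hR (T := T) (Y := G)
      (fun Z k g => actPt a g (k ≫ x) = k ≫ y)
      (fun Z Z' k g y' h => by simp only [Category.assoc]; rw [← comp_actPt, h])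
      (fun Z k hZ => htr' hZ _ _)
    refine ⟨g, hom_ext_of_point hR fun Z k hZ => ?_, fun g' hg' => hom_ext_of_point hR fun Z k hZ => ?_⟩
    · rw [comp_actPt]
      exact hg Z k hZ
    · refine (htr' hZ _ _).unique ?_ (hg Z k hZ)
      rw [← comp_actPt, hg']

end Groth.Agent.Push96
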