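import Groth.Prelude.Def_NonAbH2
import Groth.Agent.Desc59.FpqcMor
import Mathlib.AlgebraicGeometry.Cover.Sigma
import Groth.Agent.Sga84.TorsorDesc

/-! A scheme with sections locally for the fpqc topology has one over a single fpqc morphism. -/

set_option autoImplicit false
universe u

open CategoryTheory CategoryTheory.Limits AlgebraicGeometry

namespace Groth.Agent.Push96

set_option backward.isDefEq.respectTransparency.types false in
theorem exists_fpqcMor_point {S : Scheme.{u}} {P : Over S}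
    (h : NonAbH1.IsLocallyTrivialFor Scheme.fpqcPrecoverage P) :
    ∃ (Q : Over S) (_ : Q ⟶ P), Flat Q.hom ∧ Surjective Q.hom ∧ Desc59.IsFpqcMor Q.hom ∧
      NonAbH1.IsLocallyTrivialFor Scheme.fpqcPrecoverage Q := by
  obtain ⟨R, hR, hsec⟩ := h
  obtain ⟨𝒰, h𝒰, rfl⟩ := Scheme.mem_propQCPrecoverage_iff_exists_quasiCompactCover.mp hR
  let 𝒱 := QuasiCompactCover.ulift 𝒰.toPreZeroHypercover
  let p : (∐ 𝒱.X) ⟶ S := Sigma.desc 𝒱.f
  have hflat : Flat p := IsZariskiLocalAtSource.sigmaDesc (P := @Flat) fun i => 𝒰.map_prop _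
  have hsurj : Surjective p := ⟨fun x => by
    obtain ⟨_, ⟨U, hU, rfl⟩, hxU, -⟩ :=
      S.isBasis_affineOpens.exists_subset_of_mem_open (Set.mem_univ x) isOpen_univ
    change S.Opens at U
    obtain ⟨n, a, V, -, heq⟩ := QuasiCompactCover.exists_isAffineOpen_of_isCompact 𝒱
      (U := U) hU.isCompact
    have hx : x ∈ (U : Set S) := hxU
    rw [← heq, Set.mem_iUnion] at hx
    obtain ⟨i, z, -, hz⟩ := hx
    refine ⟨Sigma.ι 𝒱.X (a i) z, ?_⟩
    rw [← Scheme.Hom.comp_apply, Sigma.ι_desc]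
    exact hz⟩
  have hqc : QuasiCompactCover (PreZeroHypercover.singleton.{u} p) :=
    QuasiCompactCover.of_hom (𝒱 := 𝒱)
      ({ s₀ := fun _ => PUnit.unit
         h₀ := fun i => Sigma.ι 𝒱.X i
         w₀ := fun i => colimit.ι_desc _ _ } : 𝒱.Hom (PreZeroHypercover.singleton.{u} p))
  have hmem : Presieve.singleton p ∈ Scheme.fpqcPrecoverage S := by
    refine ⟨?_, ?_⟩
    · rw [← PreZeroHypercover.presieve₀_singleton.{u}, Scheme.presieve₀_mem_qcPrecoverage_iff]
      exact hqc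
    · rw [Scheme.singleton_mem_precoverage_iff]
      exact ⟨hsurj.surj, hflat⟩
  choose s hs using fun i : 𝒱.I₀ => hsec (𝒱.f i) ⟨_⟩
  refine ⟨Over.mk p, Over.homMk (Sigma.desc s) (Sigma.hom_ext _ _ fun i => ?_), hflat, hsurj,
    ⟨hmem⟩, Presieve.singleton p, hmem, ?_⟩
  · show Sigma.ι 𝒱.X i ≫ Sigma.desc s ≫ P.hom = Sigma.ι 𝒱.X i ≫ p
    rw [Sigma.ι_desc_assoc, Sigma.ι_desc, hs i]
  · rintro S' f ⟨⟩
    exact ⟨𝟙 _, Category.id_comp _⟩

end Groth.Agent.Push96
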