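import Groth.Agent.Sga84.TorsorExact
import Groth.Agent.Push96.Unique
import Groth.Agent.Push96.Cover
import Groth.Agent.Push96.Twist

/-! Extension of the structure group of an fpqc torsor along a homomorphism to an affine group. -/

set_option autoImplicit false
universe u

open CategoryTheory MonoidalCategory CartesianMonoidalCategory MonObj GrpObj AlgebraicGeometry

noncomputable section

namespace Groth.Agent.Push96

open Groth.Agent.Sga84

variable {S : Scheme.{u}}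

local notation "K" => Scheme.fpqcPrecoverage

section OfPointwise

variable {Q G U : Over S} [GrpObj G] (hQ : NonAbH1.IsLocallyTrivialFor K Q)
  (e : ∀ {Z : Over S}, (Z ⟶ Q) → (Z ⟶ U) ≃ (Z ⟶ G))
  (he : ∀ {Z Z' : Over S} (k : Z' ⟶ Z) (q : Z ⟶ Q) (y : Z ⟶ U), e (k ≫ q) (k ≫ y) = k ≫ e q y)
  (C : Cocycle Q G)
  (hC : ∀ {Z : Over S} (q₀ q₁ : Z ⟶ Q) (y : Z ⟶ U), e q₁ y = e q₀ y * C.c q₀ q₁)

include hQ he hC

theorem exists_act : ∃ a : G ⊗ U ⟶ U,
    ∀ {Z : Over S} (q : Z ⟶ Q) (g : Z ⟶ G) (y : Z ⟶ U), e q (lift g y ≫ a) = g * e q y := by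
  obtain ⟨a, ha⟩ := exists_glue hQ (T := G ⊗ U) (Y := U)
    (fun Z g y => ∀ (Z' : Over S) (k : Z' ⟶ Z) (q : Z' ⟶ Q),
      e q (k ≫ y) = (k ≫ g ≫ fst G U) * e q (k ≫ g ≫ snd G U))
    (fun Z Z' k g y h Z'' k' q => by simpa using h Z'' (k' ≫ k) q)
    (fun Z g q₀ => by
      refine ⟨(e q₀).symm ((g ≫ fst G U) * e q₀ (g ≫ snd G U)), fun Z' k q => ?_, fun y hy => ?_⟩
      · rw [hC (k ≫ q₀) q, he, Equiv.apply_symm_apply, MonObj.comp_mul, ← he, _root_.mul_assoc,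
          ← hC (k ≫ q₀) q]
      · rw [Equiv.eq_symm_apply]
        simpa using hy Z (𝟙 Z) q₀)
  refine ⟨a, fun {Z} q g y => ?_⟩
  simpa using ha Z (lift g y) q Z (𝟙 Z) q

theorem ext_pt {T : Over S} {a b : T ⟶ U}
    (h : ∀ (Z : Over S) (k : Z ⟶ T) (q : Z ⟶ Q), e q (k ≫ a) = e q (k ≫ b)) : a = b :=
  hom_ext_of_point hQ fun Z k q => (e q).injective (h Z k q)

theorem exists_torsor : ∃ a : AlgGrp.Action G U, NonAbH1.IsTorsorFor K a ∧
    ∀ {Z : Over S} (q : Z ⟶ Q) (g : Z ⟶ G) (y : Z ⟶ U), e q (actPt a g y) = g * e q y := by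
  obtain ⟨a₀, ha⟩ := exists_act hQ e he C hC
  let a : AlgGrp.Action G U :=
    { act := a₀
      one_act := ext_pt hQ e he C hC fun Z k q => by
        have e1 : k ≫ (η[G] ▷ U) = lift (1 : Z ⟶ G) (k ≫ snd _ _) := by
          apply CartesianMonoidalCategory.hom_ext
          · simp only [Category.assoc, whiskerRight_fst, lift_fst, Hom.one_def]
            rw [← Category.assoc, toUnit_unique (k ≫ fst _ _) (toUnit Z)]
          · simp
        rw [← Category.assoc, e1, ha, _root_.one_mul, leftUnitor_hom]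
      mul_act := ext_pt hQ e he C hC fun Z k q => by
        obtain ⟨g, h, y, rfl⟩ : ∃ (g h : Z ⟶ G) (y : Z ⟶ U), k = lift (lift g h) y :=
          ⟨k ≫ fst _ _ ≫ fst _ _, k ≫ fst _ _ ≫ snd _ _, k ≫ snd _ _, by ext <;> simp⟩
        rw [lift_whiskerRight_assoc, lift_lift_associator_hom_assoc, lift_whiskerLeft_assoc,
          show lift g h ≫ μ[G] = g * h from (Hom.mul_def g h).symm, ha, ha, ha, _root_.mul_assoc] }
  have haPt : ∀ {Z : Over S} (q : Z ⟶ Q) (g : Z ⟶ G) (y : Z ⟶ U), e q (actPt a g y) = g * e q y := ha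
  refine ⟨a, ⟨isPseudoTorsorSch_of_existsUnique a fun T x y => ?_, ?_⟩, haPt⟩
  · obtain ⟨g, hg⟩ := exists_glue hQ (T := T) (Y := G)
      (fun Z k g => ∀ (Z' : Over S) (l : Z' ⟶ Z) (q : Z' ⟶ Q),
        (l ≫ g) * e q (l ≫ k ≫ x) = e q (l ≫ k ≫ y))
      (fun Z Z' k g y h Z'' l q => by simpa using h Z'' (l ≫ k) q)
      (fun Z k q₀ => by
        refine ⟨e q₀ (k ≫ y) * (e q₀ (k ≫ x))⁻¹, fun Z' l q => ?_, fun g hg => ?_⟩
        · rw [hC (l ≫ q₀) q, hC (l ≫ q₀) q, MonObj.comp_mul, GrpObj.comp_inv, he, he,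
            ← _root_.mul_assoc, inv_mul_cancel_right]
        · rw [eq_mul_inv_iff_mul_eq]
          simpa using hg Z (𝟙 Z) q₀)
    refine ⟨g, ext_pt hQ e he C hC fun Z k q => ?_, fun g' hg' => hom_ext_of_point hQ fun Z k q => ?_⟩
    · rw [comp_actPt, haPt]
      simpa using hg Z k q Z (𝟙 Z) q
    · have h1 : (k ≫ g') * e q (k ≫ x) = e q (k ≫ y) := by
        rw [← haPt, ← comp_actPt, hg']
      have h2 : (k ≫ g) * e q (k ≫ x) = e q (k ≫ y) := by simpa using hg Z k q Z (𝟙 Z) q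
      exact mul_right_cancel (h1.trans h2.symm)
  · obtain ⟨R, hR, hsec⟩ := hQ
    refine ⟨R, hR, fun S' f hf => ?_⟩
    obtain ⟨s, hs⟩ := hsec f hf
    exact ⟨s ≫ ((e (𝟙 Q)).symm 1).left, by rw [Category.assoc, Over.w, hs]⟩

end OfPointwise

/-- Extension of the structure group exists. -/
theorem exists_pushforward {J J' : Over S} [GrpObj J] [GrpObj J'] [IsAffineHom J'.hom]
    (u : J ⟶ J') [IsMonHom u] (P : NonAbH1.TorsorSch J K) :
    ∃ P' : NonAbH1.TorsorSch J' K, NonAbH1.IsPushforwardAlongSch u P.act P'.act := by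
  obtain ⟨hps, hloc⟩ := P.isTorsor
  obtain ⟨Q, s, hfl, hsu, hmor, hQ⟩ := exists_fpqcMor_point hloc
  choose t ht htu using fun {Z : Over S} (p q : Z ⟶ P.X) => existsUnique_actPt P.act hps q p
  have tmul : ∀ {Z : Over S} (p q r : Z ⟶ P.X), t p q * t q r = t p r := fun p q r =>
    htu p r _ (by show actPt P.act _ r = p; rw [actPt_mul, ht, ht])
  have tnat : ∀ {Z Z' : Over S} (k : Z' ⟶ Z) (p q : Z ⟶ P.X), k ≫ t p q = t (k ≫ p) (k ≫ q) :=
    fun k p q => htu _ _ _ (by show actPt P.act _ _ = _; rw [← comp_actPt, ht])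
  let C : Cocycle Q J' :=
    { c := fun q₀ q₁ => t (q₀ ≫ s) (q₁ ≫ s) ≫ u
      nat := fun k q₀ q₁ => by rw [← Category.assoc, tnat, Category.assoc, Category.assoc]
      trans' := fun q₀ q₁ q₂ => by rw [← MonObj.mul_comp, tmul] }
  obtain ⟨U, e, he, hC⟩ := exists_twist C
  obtain ⟨a, ha, haPt⟩ := exists_torsor hQ e he C hC
  obtain ⟨f, hf⟩ := exists_glue hQ (T := P.X) (Y := U)
    (fun Z p y => ∀ (Z' : Over S) (k : Z' ⟶ Z) (q : Z' ⟶ Q),
      e q (k ≫ y) = t (k ≫ p) (q ≫ s) ≫ u)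
    (fun Z Z' k p y h Z'' l q => by simpa using h Z'' (l ≫ k) q)
    (fun Z p q₀ => by
      refine ⟨(e q₀).symm (t p (q₀ ≫ s) ≫ u), fun Z' k q => ?_, fun y hy => ?_⟩
      · rw [hC (k ≫ q₀) q, he, Equiv.apply_symm_apply, ← Category.assoc k, tnat,
          show C.c (k ≫ q₀) q = t ((k ≫ q₀) ≫ s) (q ≫ s) ≫ u from rfl, ← MonObj.mul_comp,
          Category.assoc, tmul]
      · rw [Equiv.eq_symm_apply]
        simpa using hy Z (𝟙 Z) q₀)
  refine ⟨⟨U, a, ha⟩, f, ext_pt hQ e he C hC fun Z k q => ?_⟩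
  have hval : ∀ (p : Z ⟶ P.X), e q (p ≫ f) = t p (q ≫ s) ≫ u := fun p => by
    simpa using hf Z p q Z (𝟙 Z) q
  rw [← Category.assoc, hval, comp_lift_assoc]
  show _ = e q (actPt a _ _)
  rw [haPt, ← Category.assoc k, ← Category.assoc k, hval, ← MonObj.mul_comp]
  refine congrArg (· ≫ u) (htu _ _ _ ?_).symm
  show actPt P.act _ (q ≫ s) = _
  rw [actPt_mul, ht, actPt, ← comp_lift, lift_fst_snd, Category.comp_id]

end Groth.Agent.Push96
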