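import Groth.Prelude.Def_NonAbH2
import Groth.Prelude.Def_Red
import Groth.Agent.Unr55.DescProps
import Mathlib.AlgebraicGeometry.Morphisms.FlatDescent
import Mathlib.AlgebraicGeometry.Sites.Fpqc

/-! Being an fpqc torsor is fpqc local on the base. -/

set_option autoImplicit false
set_option backward.isDefEq.respectTransparency.types false
universe u

open CategoryTheory CategoryTheory.Limits MonoidalCategory CartesianMonoidalCategory AlgebraicGeometry

namespace Groth.Agent.Push96

variable {X X' : Scheme.{u}} (f : X' ⟶ X) [Flat f] [Surjective f] [QuasiCompact f]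

theorem isIso_of_isIso_pullback {A B : Over X} (φ : A ⟶ B) [IsIso ((Over.pullback f).map φ)] : IsIso φ := by
  have : IsIso ((Over.pullback f).map φ).left :=
    inferInstanceAs (IsIso ((Over.forget X').map ((Over.pullback f).map φ)))
  have hB := IsPullback.of_hasPullback B.hom f
  have hA : IsPullback (pullback.fst A.hom f) (pullback.snd A.hom f) (φ.left ≫ B.hom) f := by
    rw [Over.w φ]; exact IsPullback.of_hasPullback A.hom f
  have hmap1 : ((Over.pullback f).map φ).left ≫ pullback.fst B.hom f = pullback.fst A.hom f ≫ φ.left := by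
    exact pullback.lift_fst _ _ _
  have hmap2 : ((Over.pullback f).map φ).left ≫ pullback.snd B.hom f = pullback.snd A.hom f := by
    exact pullback.lift_snd _ _ _
  have h1 : IsPullback (pullback.fst A.hom f) ((Over.pullback f).map φ).left φ.left (pullback.fst B.hom f) := by
    rw [← hmap2] at hA
    exact IsPullback.of_bot hA hmap1.symm hB
  have hq : Unr55.fpqc (pullback.fst B.hom f) :=
    ⟨⟨MorphismProperty.pullback_fst (P := @Surjective) _ _ ‹_›,
      MorphismProperty.pullback_fst (P := @Flat) _ _ ‹_›⟩,
      MorphismProperty.pullback_fst (P := @QuasiCompact) _ _ ‹_›⟩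
  have h2 : MorphismProperty.isomorphisms Scheme.{u} (pullback.fst (pullback.fst B.hom f) φ.left) := by
    rw [← (MorphismProperty.isomorphisms Scheme.{u}).cancel_left_of_respectsIso h1.flip.isoPullback.hom,
      h1.flip.isoPullback_hom_fst]
    exact ‹IsIso ((Over.pullback f).map φ).left›
  have : IsIso φ.left :=
    MorphismProperty.of_pullback_fst_of_descendsAlong (P := MorphismProperty.isomorphisms Scheme.{u})
      (Q := Unr55.fpqc.{u}) hq h2
  have : IsIso ((Over.forget X).map φ) := this
  exact isIso_of_reflects_iso φ (Over.forget X)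

theorem isTorsorFor_bc_iff {J P : Over X} [GrpObj J] (a : AlgGrp.Action J P)
    (a' : AlgGrp.Action (Red.bc f J) (Red.bc f P))
    (ha' : Functor.LaxMonoidal.μ (Over.pullback f) J P ≫ (Over.pullback f).map a.act = a'.act) :
    NonAbH1.IsTorsorFor Scheme.fpqcPrecoverage a ↔ NonAbH1.IsTorsorFor Scheme.fpqcPrecoverage a' := by
  have key : Functor.LaxMonoidal.μ (Over.pullback f) J P ≫
      (Over.pullback f).map (lift a.act (snd J P)) ≫ Functor.OplaxMonoidal.δ (Over.pullback f) P P =
      lift a'.act (snd (Red.bc f J) (Red.bc f P)) := by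
    apply CartesianMonoidalCategory.hom_ext
    · simp [← Functor.map_comp, ← ha']
    · simp [← Functor.map_comp]
  have hiso : IsIso (lift a.act (snd J P)) ↔ IsIso (lift a'.act (snd (Red.bc f J) (Red.bc f P))) := by
    constructor
    · intro h
      rw [← key]; infer_instance
    · intro h
      have h3 : (Over.pullback f).map (lift a.act (snd J P)) = Functor.OplaxMonoidal.δ (Over.pullback f) J P ≫
          lift a'.act (snd (Red.bc f J) (Red.bc f P)) ≫ Functor.LaxMonoidal.μ (Over.pullback f) P P := by
        rw [← key, Category.assoc, Category.assoc, Functor.Monoidal.δ_μ, Category.comp_id,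
          Functor.Monoidal.δ_μ_assoc]
      have : IsIso ((Over.pullback f).map (lift a.act (snd J P))) := by
        rw [h3]; infer_instance
      exact isIso_of_isIso_pullback f _
  refine and_congr hiso ⟨?_, ?_⟩
  · rintro ⟨R, hR, hsec⟩
    obtain ⟨I, Y, g, rfl⟩ := R.exists_eq_ofArrows
    choose s hs using fun i => hsec (g i) ⟨i⟩
    refine ⟨_, Precoverage.mem_coverings_of_isPullback g hR f (fun i => pullback.fst f (g i))
      (fun i => pullback.snd f (g i)) (fun i => IsPullback.of_hasPullback _ _), ?_⟩
    rintro S' _ ⟨i⟩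
    refine ⟨pullback.lift (pullback.snd f (g i) ≫ s i) (pullback.fst f (g i)) ?_, pullback.lift_snd _ _ _⟩
    rw [Category.assoc, hs i, pullback.condition]
  · rintro ⟨R, hR, hsec⟩
    obtain ⟨I, Y, g, rfl⟩ := R.exists_eq_ofArrows
    have hf : Presieve.ofArrows (fun _ : PUnit.{u + 2} => X') (fun _ => f) ∈ Scheme.fpqcPrecoverage X := by
      rw [Presieve.ofArrows_pUnit]
      exact f.singleton_mem_fpqcPrecoverage
    choose s hs using fun i => hsec (g i) ⟨i⟩
    refine ⟨_, Scheme.fpqcPrecoverage.comp_mem_coverings (fun _ : PUnit.{u + 2} => f) hf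
      (fun _ i => g i) (fun _ => hR), ?_⟩
    rintro S' _ ⟨⟨_, i⟩⟩
    refine ⟨s i ≫ pullback.fst P.hom f, ?_⟩
    rw [Category.assoc, pullback.condition, ← Category.assoc, show s i ≫ pullback.snd P.hom f = g i from hs i]

end Groth.Agent.Push96
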