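import Groth.Agent.Sga84.TorsorDesc
import Groth.Agent.SpPts86.SmoothSection
import Mathlib.AlgebraicGeometry.Sites.Etale
import Mathlib.AlgebraicGeometry.Morphisms.LocalFlatDescent
import Mathlib.AlgebraicGeometry.Sites.Fpqc

/-! Torsors under smooth groups have sections etale locally. -/

set_option autoImplicit false
universe u

open CategoryTheory AlgebraicGeometry

namespace Groth.Agent.Push96

set_option backward.isDefEq.respectTransparency.types false in
theorem etale_locallyTrivial {X : Scheme.{u}} {G P : Over X} [GrpObj G] [Smooth G.hom]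
    {a : AlgGrp.Action G P} (h : NonAbH1.IsTorsorFor Scheme.fppfPrecoverage a) :
    NonAbH1.IsLocallyTrivialFor Scheme.etalePrecoverage P := by
  obtain ⟨hps, R, hR, hsec⟩ := h
  have h' : NonAbH1.IsTorsorFor Scheme.fpqcPrecoverage a :=
    ⟨hps, R, Scheme.fppfPrecoverage_le_fpqcPrecoverage X hR, hsec⟩
  have hd : MorphismProperty.DescendsAlong @Smooth Unr55.fpqc.{u} := by infer_instance
  have : Smooth P.hom := Sga84.hom_of_isTorsorFor @Smooth ‹Smooth G.hom› h'
  have hsurj := Sga84.surjective_of_isLocallyTrivialFor h'.2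
  have hx : ∀ x : X, ∃ (S' : Scheme.{u}) (g : S' ⟶ X) (s' : S'), Etale g ∧ g s' = x ∧
      ∃ t : S' ⟶ P.left, t ≫ P.hom = g := by
    intro x
    obtain ⟨p, rfl⟩ := hsurj.surj x
    exact SpPts86.exists_etale_section P.hom p
  choose S' g s' hg hgs t ht using hx
  refine ⟨Presieve.ofArrows S' g, ?_, ?_⟩
  · exact (Scheme.ofArrows_mem_precoverage_iff _).mpr ⟨fun x => ⟨x, s' x, hgs x⟩, hg⟩
  · rintro Y f ⟨x⟩
    exact ⟨t x, ht x⟩

end Groth.Agent.Push96
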